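import Cfsg.Agent.Lib.PG.Gen

set_option autoImplicit false
set_option maxRecDepth 100000
set_option Elab.async false
set_option exponentiation.threshold 100000

namespace Cfsg.Agent.Lib.C4.A4
open Cfsg.Agent.PG

noncomputable def n0 : Net :=
 (.cons 16 0x802
 (.cons 8 0x100094
 (.cons 4 0x8000803
 (.cons 2 0x20020320
 (.cons 1 0x10011511
 (.cons 2 0x20020002
 (.cons 4 0x8000808
 (.cons 8 0x100094
 (.cons 16 0x802
 .nil)))))))))

noncomputable def n1 : Net :=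
 (.cons 16 0x44b1
 (.cons 8 0x4001c
 (.cons 4 0x4090401
 (.cons 2 0x220200
 (.cons 1 0x114000
 (.cons 2 0x2000
 (.cons 4 0x400
 (.cons 8 0x4
 (.cons 16 0x44b1
 .nil)))))))))

noncomputable def n2 : Net :=
 (.cons 16 0x411
 (.cons 8 0x40038
 (.cons 4 0x80004
 (.cons 2 0x200222
 (.cons 1 0x101014
 (.cons 2 0x202002
 (.cons 4 0x80004
 (.cons 8 0x88
 (.cons 16 0x410
 .nil)))))))))

noncomputable def n3 : Net :=
 (.cons 16 0x1
 (.cons 8 0xb2
 (.cons 4 0xc05
 (.cons 2 0x32002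
 (.cons 1 0x4540
 (.cons 2 0x2000
 (.cons 4 0xc04
 (.cons 8 0xb2
 (.cons 16 0x1
 .nil)))))))))

noncomputable def n4 : Net :=
 (.cons 16 0x1
 (.cons 8 0x1f
 (.cons 4 0x10001
 (.cons 2 0x3110
 (.cons 1 0x10144
 (.cons 2 0x10002
 (.cons 4 0x10a01
 (.cons 8 0x1
 (.cons 16 0x1
 .nil)))))))))

noncomputable def n5 : Net :=
 (.cons 16 0xe000
 (.cons 8 0xe00008
 (.cons 4 0x90202
 (.cons 2 0x100030
 (.cons 1 0x441444
 (.cons 2 0x20102
 (.cons 4 0xa0202
 (.cons 8 0xe00004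
 (.cons 16 0xe000
 .nil)))))))))

noncomputable def n6 : Net :=
 (.cons 16 0x20e
 (.cons 8 0x110086
 (.cons 4 0xb08
 (.cons 2 0x23300
 (.cons 1 0x1040540
 (.cons 4 0x1000200
 (.cons 8 0x11004a
 (.cons 16 0x20e
 .nil))))))))

noncomputable def n7 : Net :=
 (.cons 16 0x2
 (.cons 8 0xe0
 (.cons 4 0x40904
 (.cons 2 0x100220
 (.cons 1 0x14154
 (.cons 2 0x21002
 (.cons 4 0x40004
 (.cons 8 0xe0
 (.cons 16 0x16
 .nil)))))))))

noncomputable def n8 : Net :=
 (.cons 16 0x2000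
 (.cons 8 0x200000
 (.cons 4 0x10104
 (.cons 2 0x30312
 (.cons 1 0x154000
 (.cons 4 0x10104
 (.cons 8 0x200000
 (.cons 16 0x2000
 .nil))))))))

noncomputable def n9 : Net :=
 (.cons 16 0x1f
 (.cons 8 0x54
 (.cons 4 0x10704
 (.cons 2 0x3300
 (.cons 1 0x15041
 (.cons 2 0x20000
 (.cons 4 0x10201
 (.cons 8 0x98
 (.cons 16 0x1f
 .nil)))))))))

noncomputable def n10 : Net :=
 (.cons 16 0x802
 (.cons 8 0x100094
 (.cons 4 0x8000803
 (.cons 2 0x20020320
 (.cons 1 0x10011511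
 (.cons 2 0x20020002
 (.cons 4 0x8000808
 (.cons 8 0x100094
 (.cons 16 0x802
 .nil)))))))))

noncomputable def n11 : Net :=
 (.cons 16 0xe000
 (.cons 8 0xe00004
 (.cons 4 0x50202
 (.cons 2 0x200132
 (.cons 1 0x441414
 (.cons 2 0x10000
 (.cons 4 0x60202
 (.cons 8 0xe00008
 (.cons 16 0xe000
 .nil)))))))))

noncomputable def n12 : Net :=
 (.cons 16 0x16
 (.cons 8 0xe0
 (.cons 4 0x40104
 (.cons 2 0x121012
 (.cons 1 0x14154
 (.cons 2 0x200
 (.cons 4 0x40104
 (.cons 8 0xe0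
 (.cons 16 0x2
 .nil)))))))))

noncomputable def n13 : Net :=
 (.cons 16 0x20e
 (.cons 8 0x11004a
 (.cons 4 0x1000e00
 (.cons 2 0x3300
 (.cons 1 0x1041440
 (.cons 2 0x20000
 (.cons 4 0x808
 (.cons 8 0x110086
 (.cons 16 0x20e
 .nil)))))))))

noncomputable def n14 : Net :=
 (.cons 16 0x1f
 (.cons 8 0x54
 (.cons 4 0x10704
 (.cons 2 0x3300
 (.cons 1 0x15041
 (.cons 2 0x20000
 (.cons 4 0x10201
 (.cons 8 0x98
 (.cons 16 0x1f
 .nil)))))))))

noncomputable def A : List Net := [n0, n1, n2, n3, n4, n5, n6, n7, n8, n9, n10, n11, n12, n13, n14]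

theorem hA : okA (2 ^ 5) A = true := by decide +kernel

theorem hlen : A.length = 15 := rfl

def tr3 : List ℕ := [1, 0x11c, 0x11d]

def ce3 : List (List (ℕ × ℕ)) := [[(1, 1)],
  [(2, 1)],
  [(0, 1)]]

noncomputable def cl3_l : List Claim := plainClaims 14 tr3 ce3

def tr2 : List ℕ := [1, 0x118, 0x119, 0x11a, 0x11b, 0x1181a, 0x1181b, 0x1181c
  , 0x1191a, 0x1191b, 0x11a18, 0x11a1c, 0x11b19, 0x1181a18, 0x1181a1d, 0x1181c1a
  ]

def ce2 : List (List (ℕ × ℕ)) := [[(1, 1), (3, 1), (0, 0x11d)],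
  [(2, 1), (5, 1), (7, 1)],
  [(0, 1), (8, 1), (1, 0x11c)],
  [(10, 1), (4, 1), (11, 1)],
  [(8, 1), (0, 1), (3, 0x11c)],
  [(13, 1), (6, 1), (12, 0x11c)],
  [(3, 1), (1, 1), (8, 0x11d)],
  [(7, 0x11d), (15, 1), (2, 0x11d)],
  [(12, 1), (9, 1), (13, 0x11d)],
  [(5, 1), (2, 1), (15, 0x11c)],
  [(6, 1), (13, 1), (9, 0x11c)],
  [(14, 0x11c), (11, 0x11d), (4, 0x11d)],
  [(4, 1), (10, 1), (14, 0x11d)],
  [(9, 1), (12, 1), (6, 0x11d)],
  [(15, 0x11c), (7, 1), (5, 1)],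
  [(11, 0x11c), (14, 1), (10, 0x11c)]]

noncomputable def cl2_l : List Claim := plainClaims 12 tr2 ce2

def cj1 : List ℕ := [0x11a1c]

def reps1 : List Rep := [⟨1, [(0x118, 0x118), (0x11a, 0x11a), (0x11c, 0x11c)],
   [(1, 1, 1, 1)], 3⟩,
  ⟨0x116, [(0x11d1b, 0x11d)],
   [(1, 1, 2, 1),
    (0x119, 0x1191a, 1, 0x1181b),
    (0x118, 0x11b19, 1, 0x1191b),
    (0x11b, 1, 0, 0x11a),
    (0x11b19, 0x1191c, 1, 0x11d19),
    (0x11a19, 0x118, 1, 0x11d181a1d)], 3⟩,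
  ⟨0x11616, [(0x1191a, 0x11d181a1d), (0x1181b, 0x11c19), (0x11c1b, 0x11c1b)],
   [(1, 0x11b, 1, 0x11b),
    (0x119, 0x11a, 1, 0x11d181a1d)], 2⟩]

noncomputable def cl1_l : List Claim := dcClaims 11 14 cj1 reps1

def cj0 : List ℕ := [0x119, 0x1181a, 0x11d181c1a]

def reps0 : List Rep := [⟨1, [(0x116, 0x116), (0x118, 0x118), (0x11a, 0x11a), (0x11c, 0x11c)],
   [(1, 1, 1, 1)], 3⟩,
  ⟨0x114, [(0x11c, 0x11d181c1a), (0x118, 0x119)],
   [(1, 1, 0, 1),
    (0x117, 0x116181c, 1, 0x11c191a16181c),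
    (0x116, 0x11619, 1, 0x11c181c1a16181c),
    (0x11717, 0x1161619, 1, 0x118161619)], 4⟩]

noncomputable def cl0_l : List Claim := dcClaims 10 12 cj0 reps0

def gn1 : List (ℕ × ℕ) := [(4, 0x102050503040605010206000703),
  (5, 0x10204020004020105020407030501),
  (6, 0x10a0a080a08080b0b090b090a0a0a090a0a090b0b),
  (7, 0x10a090a080a08080808080a080b0b090b090a),
  (8, 0x10b090b0b08080a0808080b090b),
  (9, 0x10c110c),
  (10, 0x101),
  (11, 0x10b),
  (12, 0x10f),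
  (13, 0x10d),
  (14, 0x112)]

noncomputable def gc1_l : List Claim := genClaims gn1

def gn2 : List (ℕ × ℕ) := [(0, 0x114),
  (1, 0x11b1916161914161614),
  (2, 0x1181c1a1618171416141c),
  (3, 0x11d1a18161416181d)]

noncomputable def gc2_l : List Claim := genClaims gn2

def zcs0 : List (List ℕ × List ℕ × ℕ) := [([0x0238], [0x11d181b171914161614, 0x11c181a181618141618], 1)]

noncomputable def zcls0_l : List Claim := zClaims [0x022a302e] zcs0

noncomputable def yp0_l : List Claim := [(powP [0x022a302e] 7, [])]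

theorem cl3_0 : chk A 5 (cl3_l) = true := by decide +kernel

theorem ok3 : plainOK A 14 15 1 tr3 ce3 = true := by decide +kernel

theorem orb3 : orbCardB A 2 14 1 3 3 = true := by decide +kernel

theorem cl2_0 : chk A 5 (cl2_l) = true := by decide +kernel

theorem ok2 : plainOK A 12 14 2 tr2 ce2 = true := by decide +kernel

theorem orb2 : orbCardB A 2 12 2 3 16 = true := by decide +kernel

theorem cl1_0 : chk A 5 (cl1_l) = true := by decide +kernel

theorem ok1 : dcOK A 11 14 5 2 3 cj1 reps1 = true := by decide +kernel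

theorem orb1 : orbCardB A 2 11 5 3 20 = true := by decide +kernel

theorem cl0_0 : chk A 5 (cl0_l) = true := by decide +kernel

theorem ok0 : dcOK A 10 12 0 5 3 cj0 reps0 = true := by decide +kernel

theorem orb0 : orbCardB A 2 10 0 3 21 = true := by decide +kernel

theorem gc1_0 : chk A 5 (gc1_l) = true := by decide +kernel

theorem gc2_0 : chk A 5 (gc2_l) = true := by decide +kernel

theorem genok : genEqOK A 4 10 gn1 gn2 = true := by decide +kernel

theorem maxok0 : maxOK A 10 11 0 3 3 4 [0x114] = true := by decide +kernel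

theorem ncloks0_3 : nclOK A 14 15 1 3 [[0x0238]] [(1, 0)] = true := by decide +kernel

theorem ncloks0_2 : nclOK A 12 14 2 4 [] [(1, 0), (0x1181c, 0), (0x1181c1a, 0)] = true := by decide +kernel

theorem ncloks0_1 : nclOK A 11 12 5 4 [] [(1, 0), (1, 1), (1, 2), (0x1161917, 1)] = true := by decide +kernel

theorem ncloks0_0 : nclOK A 10 11 0 4 [] [(1, 0), (1, 1), (1, 2), (1, 3), (0x114161a, 0)] = true := by decide +kernel

theorem zcls0_0 : chk A 5 (zcls0_l) = true := by decide +kernel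

theorem yp0_0 : chk A 5 (yp0_l) = true := by decide +kernel

theorem card4 : Nat.card (K A 15) = 1 := card_K_last A (le_of_eq hlen)

theorem cl3 : ∀ c ∈ cl3_l, Holds A c :=
  (chk_spec hA cl3_0)

theorem stab3 : StabIs A 14 1 15 := stabIs_plain hA ok3 cl3

theorem card3 : Nat.card (K A 14) = 3 := card_K_step hA stab3 orb3 card4

theorem cl2 : ∀ c ∈ cl2_l, Holds A c :=
  (chk_spec hA cl2_0)

theorem stab2 : StabIs A 12 2 14 := stabIs_plain hA ok2 cl2

theorem card2 : Nat.card (K A 12) = 48 := card_K_step hA stab2 orb2 card3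

theorem cl1 : ∀ c ∈ cl1_l, Holds A c :=
  (chk_spec hA cl1_0)

theorem stab1 : StabIs A 11 5 12 := stabIs_dc hA stab2 ok1 cl1

theorem card1 : Nat.card (K A 11) = 960 := card_K_step hA stab1 orb1 card2

theorem cl0 : ∀ c ∈ cl0_l, Holds A c :=
  (chk_spec hA cl0_0)

theorem stab0 : StabIs A 10 0 11 := stabIs_dc hA stab1 ok0 cl0

theorem card0 : Nat.card (K A 10) = 20160 := card_K_step hA stab0 orb0 card1

theorem fixTriv0 {B : Set ℕ} (h0 : 0 ∈ B) (h1 : 5 ∈ B) (h2 : 2 ∈ B) (h3 : 1 ∈ B) : FixTriv (K A 10) B :=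
  fixTriv_step stab0 h0 <| fixTriv_step stab1 h1 <| fixTriv_step stab2 h2 <| fixTriv_step stab3 h3 <| fixTriv_last A (le_of_eq hlen) B

theorem fixTriv1 {B : Set ℕ} (h1 : 5 ∈ B) (h2 : 2 ∈ B) (h3 : 1 ∈ B) : FixTriv (K A 11) B :=
  fixTriv_step stab1 h1 <| fixTriv_step stab2 h2 <| fixTriv_step stab3 h3 <| fixTriv_last A (le_of_eq hlen) B

theorem fixTriv2 {B : Set ℕ} (h2 : 2 ∈ B) (h3 : 1 ∈ B) : FixTriv (K A 12) B :=
  fixTriv_step stab2 h2 <| fixTriv_step stab3 h3 <| fixTriv_last A (le_of_eq hlen) B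

theorem fixTriv3 {B : Set ℕ} (h3 : 1 ∈ B) : FixTriv (K A 14) B :=
  fixTriv_step stab3 h3 <| fixTriv_last A (le_of_eq hlen) B

theorem gc1 : ∀ c ∈ gc1_l, Holds A c :=
  (chk_spec hA gc1_0)

theorem gc2 : ∀ c ∈ gc2_l, Holds A c :=
  (chk_spec hA gc2_0)

theorem gen_eq : K (A.take 4) 0 = K A 10 := K_take_eq genok gc1 gc2

theorem max0 (L : Subgroup (Equiv.Perm ℕ)) (h1 : K A 11 ≤ L) (h2 : L ≤ K A 10) : L = K A 11 ∨ L = K A 10 :=
  max_spec hA stab0 maxok0 h1 h2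

theorem zcls0 : ∀ c ∈ zcls0_l, Holds A c :=
  (chk_spec hA zcls0_0)

theorem ncls0 (M : Subgroup (Equiv.Perm ℕ)) (hM : ∀ σ ∈ K A 10, ∀ n ∈ M, σ * n * σ⁻¹ ∈ M) (hy : pp A [0x022a302e] ∈ M) : K A 10 ≤ M :=
  have hz := z_mem hM hy (zc := zcs0) (by decide +kernel) zcls0
  ncl_step hA stab0 ncloks0_0 (by decide) hM (sub_z hz (by decide +kernel)) <|
  ncl_step hA stab1 ncloks0_1 (by decide) hM (sub_z hz (by decide +kernel)) <|
  ncl_step hA stab2 ncloks0_2 (by decide) hM (sub_z hz (by decide +kernel)) <|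
  ncl_step hA stab3 ncloks0_3 (by decide) hM (sub_z hz (by decide +kernel)) <|
  K_last_le A (le_of_eq hlen) M

theorem yp0 : ∀ c ∈ yp0_l, Holds A c :=
  (chk_spec hA yp0_0)

theorem simple0 : IsSimpleGroup (K A 10) :=
  isSimpleGroup_K hA stab0 (exists_moved hA (j := 10) (by decide +kernel)) max0 (fixTriv0
    (mem_orbit_of_word hA (w := 1) (by decide +kernel))
    (mem_orbit_of_word hA (w := 0x114) (by decide +kernel))
    (mem_orbit_of_word hA (w := 0x11417) (by decide +kernel))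
    (mem_orbit_of_word hA (w := 0x114161a) (by decide +kernel)))
    (p := 7) (e := 1) (by norm_num) (by rw [card1]; norm_num) (pp_mem (l := [0x022a302e]) (by decide +kernel))
    (pow_of_claim yp0) ncls0


end Cfsg.Agent.Lib.C4.A4
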